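import Mathlib
import Groth.Prelude.Def_RDer
import Groth.Agent.Lib.Helper2.RDer7
import Groth.Agent.Lib.Helper7.SplitCx2

/-!
# The comparison `H^n(Ψ K) → Ψ(H^n K)` for a complex with `Ψ`-acyclic terms and homology

For a left exact additive functor `Ψ : B ⥤ C` and a cochain complex `K` in nonnegative degrees whose terms and
whose homology objects are all `Ψ`-acyclic, the comparison `RDer.homologyComparison Ψ K n` is an isomorphism.
Consequence: if `Φ` sends injectives to `Ψ`-acyclic objects and all `RⁿΦ X` are `Ψ`-acyclic, then the second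
edge map `Rⁿ(Φ ⋙ Ψ) X ⟶ Ψ (RⁿΦ X)` is an isomorphism.
-/

set_option autoImplicit false

open CategoryTheory Limits HomologicalComplex

namespace Groth.Agent.LD.EO

universe v u v' u' v'' u''

section Acyc

variable {B : Type u} [Category.{v} B] [Abelian B] [HasInjectiveResolutions B]
  {C : Type u'} [Category.{v'} C] [Abelian C]
  (Ψ : B ⥤ C) [Ψ.Additive]

/-- `Ψ`-acyclic objects. -/
def Acyc (X : B) : Prop := ∀ p : ℕ, IsZero ((Ψ.rightDerived (p + 1)).obj X)

lemma acyc_of_iso {X Y : B} (e : X ≅ Y) (h : Acyc Ψ X) : Acyc Ψ Y :=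
  fun p => IsZero.of_iso (h p) ((Ψ.rightDerived (p + 1)).mapIso e.symm)

lemma acyc_X₃ {S : ShortComplex B} (hS : S.ShortExact) (h₁ : Acyc Ψ S.X₁) (h₂ : Acyc Ψ S.X₂) :
    Acyc Ψ S.X₃ := fun p =>
  (Groth.Agent.H2.RDer.LES.exact₃ Ψ hS (p + 1)).isZero_of_both_zeros
    ((h₂ p).eq_of_src _ _) ((h₁ (p + 1)).eq_of_tgt _ _)

lemma acyc_X₂ {S : ShortComplex B} (hS : S.ShortExact) (h₁ : Acyc Ψ S.X₁) (h₃ : Acyc Ψ S.X₃) :
    Acyc Ψ S.X₂ := fun p =>
  (Groth.Agent.H2.RDer.LES.exact₂ Ψ hS (p + 1)).isZero_of_both_zeros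
    ((h₁ p).eq_of_src _ _) ((h₃ p).eq_of_tgt _ _)

/-- if `R¹Ψ X₁ = 0` then `Ψ` preserves the epimorphism of a short exact sequence. -/
lemma epi_map_g [PreservesFiniteLimits Ψ] {S : ShortComplex B} (hS : S.ShortExact)
    (h₁ : IsZero ((Ψ.rightDerived 1).obj S.X₁)) : Epi (Ψ.map S.g) := by
  let T : ShortComplex C := ShortComplex.mk ((Ψ.rightDerived 0).map S.g)
    (Groth.Agent.H2.RDer.LES.δ Ψ hS 0) (Groth.Agent.H2.RDer.LES.map_g_δ Ψ hS 0)
  have hex : T.Exact := Groth.Agent.H2.RDer.LES.exact₃ Ψ hS 0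
  have hδ : T.g = 0 := h₁.eq_of_tgt _ _
  have hepi : Epi ((Ψ.rightDerived 0).map S.g) := (T.exact_iff_epi hδ).1 hex
  have hnat := Ψ.toRightDerivedZero.naturality S.g
  have h3 : Epi (Ψ.map S.g ≫ Ψ.toRightDerivedZero.app S.X₃) := by
    rw [hnat]
    infer_instance
  have h4 : Ψ.map S.g = (Ψ.map S.g ≫ Ψ.toRightDerivedZero.app S.X₃) ≫
      inv (Ψ.toRightDerivedZero.app S.X₃) := by
    rw [Category.assoc, IsIso.hom_inv_id, Category.comp_id]
  rw [h4]
  infer_instance

end Acyc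

section Seq

variable {B : Type u} [Category.{v} B] [Abelian B] (K : CochainComplex B ℕ)

/-- boundaries -/
noncomputable abbrev bd (i j : ℕ) : B := Abelian.image (K.toCycles i j)

/-- `0 → Zⁱ → Kⁱ → Bʲ → 0`. -/
noncomputable def seqA (i j : ℕ) : ShortComplex B :=
  ShortComplex.mk (K.iCycles i) (Abelian.factorThruImage (K.toCycles i j)) (by
    rw [← cancel_mono (Abelian.image.ι (K.toCycles i j)), Category.assoc, Abelian.image.fac,
      zero_comp, ← cancel_mono (K.iCycles j), Category.assoc, toCycles_i, iCycles_d, zero_comp])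

lemma seqA_shortExact (i j : ℕ) (hij : (ComplexShape.up ℕ).next i = j) :
    (seqA K i j).ShortExact := by
  let T : ShortComplex B := ShortComplex.mk (K.iCycles i) (K.d i j) (K.iCycles_d i j)
  have hT : T.Exact := T.exact_of_f_is_kernel (K.cyclesIsKernel i j hij)
  let φ : seqA K i j ⟶ T :=
    { τ₁ := 𝟙 _
      τ₂ := 𝟙 _
      τ₃ := Abelian.image.ι (K.toCycles i j) ≫ K.iCycles j
      comm₁₂ := by
        change 𝟙 _ ≫ K.iCycles i = K.iCycles i ≫ 𝟙 _
        rw [Category.id_comp, Category.comp_id]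
      comm₂₃ := by
        change 𝟙 _ ≫ K.d i j = Abelian.factorThruImage (K.toCycles i j) ≫
          Abelian.image.ι (K.toCycles i j) ≫ K.iCycles j
        rw [← Category.assoc, Abelian.image.fac, toCycles_i, Category.id_comp] }
  haveI : Epi φ.τ₁ := inferInstanceAs (Epi (𝟙 _))
  haveI : IsIso φ.τ₂ := inferInstanceAs (IsIso (𝟙 _))
  haveI : Mono φ.τ₃ :=
    inferInstanceAs (Mono (Abelian.image.ι (K.toCycles i j) ≫ K.iCycles j))
  have hex : (seqA K i j).Exact := (ShortComplex.exact_iff_of_epi_of_isIso_of_mono φ).2 hT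
  exact ShortComplex.ShortExact.mk' hex (inferInstanceAs (Mono (K.iCycles i)))
    (inferInstanceAs (Epi (Abelian.factorThruImage (K.toCycles i j))))

/-- `0 → Bʲ → Zʲ → Hʲ → 0`. -/
noncomputable def seqB (i j : ℕ) : ShortComplex B :=
  ShortComplex.mk (Abelian.image.ι (K.toCycles i j)) (K.homologyπ j) (by
    rw [← cancel_epi (Abelian.factorThruImage (K.toCycles i j)), ← Category.assoc,
      Abelian.image.fac, toCycles_comp_homologyπ, comp_zero])

lemma seqB_shortExact (i j : ℕ) (hij : (ComplexShape.up ℕ).prev j = i) :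
    (seqB K i j).ShortExact := by
  let T : ShortComplex B := ShortComplex.mk (K.toCycles i j) (K.homologyπ j)
    (K.toCycles_comp_homologyπ i j)
  have hT : T.Exact := T.exact_of_g_is_cokernel (K.homologyIsCokernel i j hij)
  let φ : T ⟶ seqB K i j :=
    { τ₁ := Abelian.factorThruImage (K.toCycles i j)
      τ₂ := 𝟙 _
      τ₃ := 𝟙 _
      comm₁₂ := by
        change Abelian.factorThruImage (K.toCycles i j) ≫ Abelian.image.ι (K.toCycles i j) =
          K.toCycles i j ≫ 𝟙 _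
        rw [Abelian.image.fac, Category.comp_id]
      comm₂₃ := by
        change 𝟙 _ ≫ K.homologyπ j = K.homologyπ j ≫ 𝟙 _
        rw [Category.id_comp, Category.comp_id] }
  haveI : Epi φ.τ₁ := inferInstanceAs (Epi (Abelian.factorThruImage (K.toCycles i j)))
  haveI : IsIso φ.τ₂ := inferInstanceAs (IsIso (𝟙 _))
  haveI : Mono φ.τ₃ := inferInstanceAs (Mono (𝟙 _))
  have hex : (seqB K i j).Exact := (ShortComplex.exact_iff_of_epi_of_isIso_of_mono φ).1 hT
  exact ShortComplex.ShortExact.mk' hex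
    (inferInstanceAs (Mono (Abelian.image.ι (K.toCycles i j))))
    (inferInstanceAs (Epi (K.homologyπ j)))

end Seq

section Main

variable {B : Type u} [Category.{v} B] [Abelian B] [HasInjectiveResolutions B]
  {C : Type u'} [Category.{v'} C] [Abelian C] (Ψ : B ⥤ C) [Ψ.Additive]
  (K : CochainComplex B ℕ)

/-- the cycles of a complex with acyclic terms and acyclic homology are acyclic. -/
lemma acyc_cycles (hX : ∀ n, Acyc Ψ (K.X n)) (hH : ∀ n, Acyc Ψ (K.homology n)) :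
    ∀ n, Acyc Ψ (K.cycles n)
  | 0 => acyc_of_iso Ψ K.isoHomologyπ₀.symm (hH 0)
  | (m + 1) => by
    have h1 : Acyc Ψ (bd K m (m + 1)) :=
      acyc_X₃ Ψ (seqA_shortExact K m (m + 1) (by simp)) (acyc_cycles hX hH m) (hX m)
    exact acyc_X₂ Ψ (seqB_shortExact K m (m + 1) (by simp)) h1 (hH (m + 1))

variable [PreservesFiniteLimits Ψ]

omit [HasInjectiveResolutions B] in
set_option backward.isDefEq.respectTransparency false in
lemma w_eq (n : ℕ) :
    ((Ψ.mapHomologicalComplex (ComplexShape.up ℕ)).obj K).toCycles ((ComplexShape.up ℕ).prev n) n ≫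
      (RDer.cyclesComparison Ψ K n ≫ Ψ.map (K.homologyπ n)) = 0 := by
  rw [RDer.toCycles_cyclesComparison_assoc, ← Ψ.map_comp, toCycles_comp_homologyπ, Ψ.map_zero]

omit [HasInjectiveResolutions B] in
set_option backward.isDefEq.respectTransparency false in
lemma isIso_of_isColimit (n : ℕ)
    (hc : IsColimit (CokernelCofork.ofπ (RDer.cyclesComparison Ψ K n ≫ Ψ.map (K.homologyπ n))
      (w_eq Ψ K n))) :
    IsIso (RDer.homologyComparison Ψ K n) := by
  have : RDer.homologyComparison Ψ K n =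
      (IsColimit.coconePointUniqueUpToIso
        (((Ψ.mapHomologicalComplex (ComplexShape.up ℕ)).obj K).homologyIsCokernel
          ((ComplexShape.up ℕ).prev n) n rfl) hc).hom := rfl
  rw [this]
  infer_instance

/-- the short complex `(ΨK)ⁱ → Zⁿ(ΨK) → Ψ(Hⁿ K)`. -/
noncomputable def cmpSC (n : ℕ) : ShortComplex C :=
  ShortComplex.mk _ _ (w_eq Ψ K n)

lemma cmpSC_exact_and_epi (hX : ∀ n, Acyc Ψ (K.X n)) (hH : ∀ n, Acyc Ψ (K.homology n)) (n : ℕ)
    (hn : (ComplexShape.up ℕ).next ((ComplexShape.up ℕ).prev n) = n) :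
    (cmpSC Ψ K n).Exact ∧ Epi (cmpSC Ψ K n).g := by
  have hA := seqA_shortExact K ((ComplexShape.up ℕ).prev n) n hn
  have hB := seqB_shortExact K ((ComplexShape.up ℕ).prev n) n rfl
  have hZ : Acyc Ψ (K.cycles ((ComplexShape.up ℕ).prev n)) := acyc_cycles Ψ K hX hH _
  have hBd : Acyc Ψ (bd K ((ComplexShape.up ℕ).prev n) n) := acyc_X₃ Ψ hA hZ (hX _)
  have e1 : Epi (Ψ.map (Abelian.factorThruImage (K.toCycles ((ComplexShape.up ℕ).prev n) n))) :=
    epi_map_g Ψ hA (hZ 0)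
  have e2 : Epi (Ψ.map (K.homologyπ n)) := epi_map_g Ψ hB (hBd 0)
  -- `Ψ` of the sequence `B`
  have hT₃ : ((seqB K ((ComplexShape.up ℕ).prev n) n).map Ψ).Exact :=
    hB.exact.map_of_mono_of_preservesKernel Ψ hB.mono_f inferInstance
  let T₂ : ShortComplex C := ShortComplex.mk
    (Ψ.map (K.toCycles ((ComplexShape.up ℕ).prev n) n)) (Ψ.map (K.homologyπ n))
    (by rw [← Ψ.map_comp, toCycles_comp_homologyπ, Ψ.map_zero])
  let φ₂ : T₂ ⟶ (seqB K ((ComplexShape.up ℕ).prev n) n).map Ψ :=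
    { τ₁ := Ψ.map (Abelian.factorThruImage (K.toCycles ((ComplexShape.up ℕ).prev n) n))
      τ₂ := 𝟙 _
      τ₃ := 𝟙 _
      comm₁₂ := by
        change Ψ.map (Abelian.factorThruImage (K.toCycles ((ComplexShape.up ℕ).prev n) n)) ≫
          Ψ.map (Abelian.image.ι (K.toCycles ((ComplexShape.up ℕ).prev n) n)) =
          Ψ.map (K.toCycles ((ComplexShape.up ℕ).prev n) n) ≫ 𝟙 _
        rw [← Ψ.map_comp, Abelian.image.fac, Category.comp_id]
      comm₂₃ := by
        change 𝟙 _ ≫ Ψ.map (K.homologyπ n) = Ψ.map (K.homologyπ n) ≫ 𝟙 _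
        rw [Category.id_comp, Category.comp_id] }
  haveI : Epi φ₂.τ₁ := e1
  haveI : IsIso φ₂.τ₂ := inferInstanceAs (IsIso (𝟙 _))
  haveI : Mono φ₂.τ₃ := inferInstanceAs (Mono (𝟙 _))
  have hT₂ : T₂.Exact := (ShortComplex.exact_iff_of_epi_of_isIso_of_mono φ₂).2 hT₃
  let φ₁ : cmpSC Ψ K n ⟶ T₂ :=
    { τ₁ := 𝟙 _
      τ₂ := RDer.cyclesComparison Ψ K n
      τ₃ := 𝟙 _
      comm₁₂ := by
        change 𝟙 _ ≫ Ψ.map (K.toCycles ((ComplexShape.up ℕ).prev n) n) =
          ((Ψ.mapHomologicalComplex (ComplexShape.up ℕ)).obj K).toCycles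
            ((ComplexShape.up ℕ).prev n) n ≫ RDer.cyclesComparison Ψ K n
        rw [RDer.toCycles_cyclesComparison, Category.id_comp]
      comm₂₃ := by
        change RDer.cyclesComparison Ψ K n ≫ Ψ.map (K.homologyπ n) =
          (RDer.cyclesComparison Ψ K n ≫ Ψ.map (K.homologyπ n)) ≫ 𝟙 _
        rw [Category.comp_id] }
  haveI : Epi φ₁.τ₁ := inferInstanceAs (Epi (𝟙 _))
  haveI : IsIso φ₁.τ₂ := inferInstanceAs (IsIso (RDer.cyclesComparison Ψ K n))
  haveI : Mono φ₁.τ₃ := inferInstanceAs (Mono (𝟙 _))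
  refine ⟨(ShortComplex.exact_iff_of_epi_of_isIso_of_mono φ₁).2 hT₂, ?_⟩
  change Epi (RDer.cyclesComparison Ψ K n ≫ Ψ.map (K.homologyπ n))
  infer_instance

lemma cmpSC_zero_exact_and_epi : (cmpSC Ψ K 0).Exact ∧ Epi (cmpSC Ψ K 0).g := by
  have hf : (cmpSC Ψ K 0).f = 0 :=
    Groth.Agent.H7.SplitCx.toCycles_eq_zero _ _ _ (by simp)
  haveI : IsIso (cmpSC Ψ K 0).g :=
    inferInstanceAs (IsIso (RDer.cyclesComparison Ψ K 0 ≫ Ψ.map (K.homologyπ 0)))
  exact ⟨((cmpSC Ψ K 0).exact_iff_mono hf).2 inferInstance, inferInstance⟩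

/-- **Main lemma**: for a complex with `Ψ`-acyclic terms and `Ψ`-acyclic homology, `Hⁿ(Ψ K) ≅ Ψ(Hⁿ K)`. -/
theorem isIso_homologyComparison (hX : ∀ n, Acyc Ψ (K.X n)) (hH : ∀ n, Acyc Ψ (K.homology n))
    (n : ℕ) : IsIso (RDer.homologyComparison Ψ K n) := by
  have key : (cmpSC Ψ K n).Exact ∧ Epi (cmpSC Ψ K n).g := by
    cases n with
    | zero => exact cmpSC_zero_exact_and_epi Ψ K
    | succ m => exact cmpSC_exact_and_epi Ψ K hX hH (m + 1) (by simp)
  haveI := key.2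
  exact isIso_of_isColimit Ψ K n key.1.gIsCokernel

end Main

section Edge

variable {A : Type u''} [Category.{v''} A] [Abelian A] [HasInjectiveResolutions A]
  {B : Type u} [Category.{v} B] [Abelian B] [HasInjectiveResolutions B]
  {C : Type u'} [Category.{v'} C] [Abelian C]
  (Φ : A ⥤ B) [Φ.Additive] (Ψ : B ⥤ C) [Ψ.Additive] [PreservesFiniteLimits Ψ]

/-- If `Φ` sends injectives to `Ψ`-acyclic objects and every `RⁿΦ X` is `Ψ`-acyclic, then the second edge map
`R^q(Φ ⋙ Ψ) X ⟶ Ψ (R^q Φ X)` is an isomorphism. -/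
theorem isIso_edgeOut (X : A) (h1 : ∀ I : A, Injective I → Acyc Ψ (Φ.obj I))
    (h2 : ∀ n, Acyc Ψ ((Φ.rightDerived n).obj X)) (q : ℕ) : IsIso (RDer.edgeOut Φ Ψ q X) := by
  have h0 : IsIso (RDer.homologyComparison Ψ
      ((Φ.mapHomologicalComplex (ComplexShape.up ℕ)).obj (injectiveResolution X).cocomplex) q) :=
    isIso_homologyComparison Ψ _ (fun n => h1 _ ((injectiveResolution X).injective n))
      (fun n => acyc_of_iso Ψ ((injectiveResolution X).isoRightDerivedObj Φ n) (h2 n)) q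
  have h3 : IsIso (Ψ.map ((injectiveResolution X).isoRightDerivedObj Φ q).inv) := inferInstance
  have h4 : IsIso ((injectiveResolution X).isoRightDerivedObj (Φ ⋙ Ψ) q).hom := inferInstance
  unfold RDer.edgeOut
  exact @IsIso.comp_isIso _ _ _ _ _ _ _ h4 (@IsIso.comp_isIso _ _ _ _ _ _ _ h0 h3)

end Edge

end Groth.Agent.LD.EO
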