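import Mathlib
import Groth.Prelude.Def_CohBC2
import Groth.Agent.Lib.Lead.EO.HomCmp
import Groth.Agent.Lib.Lead.QCQS.Main
import Groth.Agent.Lib.Lead.RP.LemmaA

/-!
# The second Leray edge map `R^q (f ≫ g)_* M ⟶ g_* (R^q f_* M)` is an isomorphism for `f` qcqs, `g` affine,
`M` quasi-coherent.
-/

set_option autoImplicit false

open CategoryTheory Limits AlgebraicGeometry

namespace Groth.Agent.LD.EO

universe u

variable {X Y Z : Scheme.{u}} (f : X ⟶ Y) (g : Y ⟶ Z)

/-- the direct image of an injective module is acyclic for any further direct image. -/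
theorem isZero_Rpush_push_injective [HasInjectiveResolutions Y.Modules] (I : X.Modules)
    [Injective I] (q : ℕ) (hq : 0 < q) :
    IsZero ((Coh.Rpush g q).obj ((Scheme.Modules.pushforward f).obj I)) := by
  have hI : CohCx.IsTotallyAcyclic (ModSite.toAb (O := X.sheaf) I) :=
    @Groth.Agent.LD.RP.isTotallyAcyclic_toAb_of_injective _ _ _ X.sheaf I ‹_›
  have h2 : CohCx.IsTotallyAcyclic
      ((Groth.Agent.LD.RP.τ Y).obj ((Scheme.Modules.pushforward f).obj I)) :=
    Groth.Agent.LD.RP.isTotallyAcyclic_pushAb f ((Groth.Agent.LD.RP.τ X).obj I) hI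
  exact Groth.Agent.LD.RP.isZero_Rpush_of_isTotallyAcyclic g _ h2 q hq

/-- **S16462**. -/
theorem isIso_lerayEdgeOut [QuasiCompact f] [QuasiSeparated f] [IsAffineHom g]
    [HasInjectiveResolutions X.Modules] (M : X.Modules) [M.IsQuasicoherent] (p : ℕ) :
    IsIso (CohBC.lerayEdgeOut f g p M) := by
  haveI := Groth.Agent.LD.QCQS.hasInjRes Y
  have h0 : IsIso (RDer.edgeOut (Scheme.Modules.pushforward f) (Scheme.Modules.pushforward g) p M) := by
    refine isIso_edgeOut _ _ M (fun I hI q => ?_) (fun n q => ?_) p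
    · haveI := hI
      exact isZero_Rpush_push_injective f g I (q + 1) (Nat.succ_pos q)
    · haveI : (((Scheme.Modules.pushforward f).rightDerived n).obj M).IsQuasicoherent :=
        Groth.Agent.LD.QCQS.qc_Rpush f M n
      exact Groth.Agent.LD.QCQS.isZero_Rpush_of_isAffineHom g _ (q + 1) (Nat.succ_pos q)
  have h1 : IsIso ((RDer.rightDerivedIso (Scheme.Modules.pushforwardComp f g) p).inv.app M) :=
    inferInstance
  unfold CohBC.lerayEdgeOut
  exact @IsIso.comp_isIso _ _ _ _ _ _ _ h1 h0

end Groth.Agent.LD.EO
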