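import Mathlib
import Groth.Prelude.Def_RDer
import Groth.Agent.Lib.Lead.EO.HomCmp

/-!
# Weak Serre classes and the cohomology of a composite functor in a range of degrees

Let `P` be a weak Serre class of objects of an abelian category `C` (closed under isomorphisms, zero objects,
kernels, cokernels and extensions), `Ψ : B ⥤ C` left exact, `K` a cochain complex of `Ψ`-acyclic objects of `B`
such that `P (RᵖΨ (H^q K))` for all `p` and all `q ≤ n`.  Then `P (H^j (Ψ K))` for all `j ≤ n`.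
Consequence (`P_rightDerived_comp`): if `Φ` sends injectives to `Ψ`-acyclics and `P (RᵖΨ (R^qΦ X))` for all `p`
and all `q ≤ n`, then `P (Rⁱ(Φ ⋙ Ψ) X)` for all `i ≤ n`.
-/

set_option autoImplicit false

open CategoryTheory Limits HomologicalComplex

namespace Groth.Agent.LD.EO

universe v u v' u' v'' u''

section WeakSerre

variable {C : Type u'} [Category.{v'} C] [Abelian C]

/-- weak Serre classes of objects of an abelian category. -/
structure IsWeakSerre (P : C → Prop) : Prop where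
  of_iso : ∀ {X Y : C}, (X ≅ Y) → P X → P Y
  zero : ∀ X : C, IsZero X → P X
  kerP : ∀ {X Y : C} (f : X ⟶ Y), P X → P Y → P (kernel f)
  cokerP : ∀ {X Y : C} (f : X ⟶ Y), P X → P Y → P (cokernel f)
  ext : ∀ (S : ShortComplex C), S.ShortExact → P S.X₁ → P S.X₃ → P S.X₂

namespace IsWeakSerre

variable {P : C → Prop} (hP : IsWeakSerre P)

include hP

lemma of_exact_epi (T : ShortComplex C) (hT : T.Exact) [Epi T.g] (h : P (cokernel T.f)) :
    P T.X₃ :=
  hP.of_iso (IsColimit.coconePointUniqueUpToIso (cokernelIsCokernel T.f) hT.gIsCokernel) h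

lemma cokernel_of_exact_epi (T : ShortComplex C) (hT : T.Exact) [Epi T.g] (h : P T.X₃) :
    P (cokernel T.f) :=
  hP.of_iso (IsColimit.coconePointUniqueUpToIso (cokernelIsCokernel T.f) hT.gIsCokernel).symm h

lemma of_exact_mono (T : ShortComplex C) (hT : T.Exact) [Mono T.f] (h : P (kernel T.g)) :
    P T.X₁ :=
  hP.of_iso (IsLimit.conePointUniqueUpToIso (kernelIsKernel T.g) hT.fIsKernel) h

lemma X₃_of_exact_epi (T : ShortComplex C) (hT : T.Exact) [Epi T.g] (h₁ : P T.X₁) (h₂ : P T.X₂) :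
    P T.X₃ :=
  hP.of_exact_epi T hT (hP.cokerP T.f h₁ h₂)

lemma X₁_of_exact_mono (T : ShortComplex C) (hT : T.Exact) [Mono T.f] (h₂ : P T.X₂)
    (h₃ : P T.X₃) : P T.X₁ :=
  hP.of_exact_mono T hT (hP.kerP T.g h₂ h₃)

/-- the middle term of a five term exact sequence. -/
lemma of_five {A₁ A₂ A₃ A₄ A₅ : C} (a : A₁ ⟶ A₂) (b : A₂ ⟶ A₃) (c : A₃ ⟶ A₄) (d : A₄ ⟶ A₅)
    (wab : a ≫ b = 0) (wbc : b ≫ c = 0) (wcd : c ≫ d = 0)
    (hab : (ShortComplex.mk a b wab).Exact) (hbc : (ShortComplex.mk b c wbc).Exact)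
    (hcd : (ShortComplex.mk c d wcd).Exact)
    (h₁ : P A₁) (h₂ : P A₂) (h₄ : P A₄) (h₅ : P A₅) : P A₃ := by
  -- the image of `b`
  have w1 : a ≫ Abelian.factorThruImage b = 0 := by
    apply (cancel_mono (Abelian.image.ι b)).1
    rw [Category.assoc, Abelian.image.fac, zero_comp, wab]
  let T₁ : ShortComplex C := ShortComplex.mk a (Abelian.factorThruImage b) w1
  let φ₁ : T₁ ⟶ ShortComplex.mk a b wab :=
    { τ₁ := 𝟙 _
      τ₂ := 𝟙 _
      τ₃ := Abelian.image.ι b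
      comm₁₂ := by
        change 𝟙 _ ≫ a = a ≫ 𝟙 _
        rw [Category.id_comp, Category.comp_id]
      comm₂₃ := by
        change 𝟙 _ ≫ b = Abelian.factorThruImage b ≫ Abelian.image.ι b
        rw [Abelian.image.fac, Category.id_comp] }
  haveI : Epi φ₁.τ₁ := inferInstanceAs (Epi (𝟙 _))
  haveI : IsIso φ₁.τ₂ := inferInstanceAs (IsIso (𝟙 _))
  haveI : Mono φ₁.τ₃ := inferInstanceAs (Mono (Abelian.image.ι b))
  have hT₁ : T₁.Exact := (ShortComplex.exact_iff_of_epi_of_isIso_of_mono φ₁).2 hab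
  haveI : Epi T₁.g := inferInstanceAs (Epi (Abelian.factorThruImage b))
  have hIb : P (Abelian.image b) := hP.X₃_of_exact_epi T₁ hT₁ h₁ h₂
  -- the image of `c`
  have w2 : Abelian.image.ι c ≫ d = 0 := by
    apply (cancel_epi (Abelian.factorThruImage c)).1
    rw [← Category.assoc, Abelian.image.fac, wcd, comp_zero]
  let T₂ : ShortComplex C := ShortComplex.mk (Abelian.image.ι c) d w2
  let φ₂ : ShortComplex.mk c d wcd ⟶ T₂ :=
    { τ₁ := Abelian.factorThruImage c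
      τ₂ := 𝟙 _
      τ₃ := 𝟙 _
      comm₁₂ := by
        change Abelian.factorThruImage c ≫ Abelian.image.ι c = c ≫ 𝟙 _
        rw [Abelian.image.fac, Category.comp_id]
      comm₂₃ := by
        change 𝟙 _ ≫ d = d ≫ 𝟙 _
        rw [Category.id_comp, Category.comp_id] }
  haveI : Epi φ₂.τ₁ := inferInstanceAs (Epi (Abelian.factorThruImage c))
  haveI : IsIso φ₂.τ₂ := inferInstanceAs (IsIso (𝟙 _))
  haveI : Mono φ₂.τ₃ := inferInstanceAs (Mono (𝟙 _))
  have hT₂ : T₂.Exact := (ShortComplex.exact_iff_of_epi_of_isIso_of_mono φ₂).1 hcd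
  haveI : Mono T₂.f := inferInstanceAs (Mono (Abelian.image.ι c))
  have hIc : P (Abelian.image c) := hP.X₁_of_exact_mono T₂ hT₂ h₄ h₅
  -- the extension `0 → im b → A₃ → im c → 0`
  have w4 : b ≫ Abelian.factorThruImage c = 0 := by
    apply (cancel_mono (Abelian.image.ι c)).1
    rw [Category.assoc, Abelian.image.fac, wbc, zero_comp]
  let T' : ShortComplex C := ShortComplex.mk b (Abelian.factorThruImage c) w4
  let ψ : T' ⟶ ShortComplex.mk b c wbc :=
    { τ₁ := 𝟙 _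
      τ₂ := 𝟙 _
      τ₃ := Abelian.image.ι c
      comm₁₂ := by
        change 𝟙 _ ≫ b = b ≫ 𝟙 _
        rw [Category.id_comp, Category.comp_id]
      comm₂₃ := by
        change 𝟙 _ ≫ c = Abelian.factorThruImage c ≫ Abelian.image.ι c
        rw [Abelian.image.fac, Category.id_comp] }
  haveI : Epi ψ.τ₁ := inferInstanceAs (Epi (𝟙 _))
  haveI : IsIso ψ.τ₂ := inferInstanceAs (IsIso (𝟙 _))
  haveI : Mono ψ.τ₃ := inferInstanceAs (Mono (Abelian.image.ι c))
  have hT' : T'.Exact := (ShortComplex.exact_iff_of_epi_of_isIso_of_mono ψ).2 hbc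
  have w3 : Abelian.image.ι b ≫ Abelian.factorThruImage c = 0 := by
    apply (cancel_epi (Abelian.factorThruImage b)).1
    rw [← Category.assoc, Abelian.image.fac, w4, comp_zero]
  let T₃ : ShortComplex C :=
    ShortComplex.mk (Abelian.image.ι b) (Abelian.factorThruImage c) w3
  let φ₃ : T' ⟶ T₃ :=
    { τ₁ := Abelian.factorThruImage b
      τ₂ := 𝟙 _
      τ₃ := 𝟙 _
      comm₁₂ := by
        change Abelian.factorThruImage b ≫ Abelian.image.ι b = b ≫ 𝟙 _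
        rw [Abelian.image.fac, Category.comp_id]
      comm₂₃ := by
        change 𝟙 _ ≫ Abelian.factorThruImage c = Abelian.factorThruImage c ≫ 𝟙 _
        rw [Category.id_comp, Category.comp_id] }
  haveI : Epi φ₃.τ₁ := inferInstanceAs (Epi (Abelian.factorThruImage b))
  haveI : IsIso φ₃.τ₂ := inferInstanceAs (IsIso (𝟙 _))
  haveI : Mono φ₃.τ₃ := inferInstanceAs (Mono (𝟙 _))
  have hT₃ : T₃.Exact := (ShortComplex.exact_iff_of_epi_of_isIso_of_mono φ₃).1 hT'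
  have hse : T₃.ShortExact := ShortComplex.ShortExact.mk' hT₃
    (inferInstanceAs (Mono (Abelian.image.ι b)))
    (inferInstanceAs (Epi (Abelian.factorThruImage c)))
  exact hP.ext T₃ hse hIb hIc

/-- `X₁ → X₂ → X₃ → X₄` exact with `P X₃`, `P X₄`: the cokernel of the first map is in `P`. -/
lemma cokernel_of_exact_exact {X₁ X₂ X₃ X₄ : C} (f : X₁ ⟶ X₂) (g : X₂ ⟶ X₃) (h : X₃ ⟶ X₄)
    (wfg : f ≫ g = 0) (wgh : g ≫ h = 0) (hfg : (ShortComplex.mk f g wfg).Exact)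
    (hgh : (ShortComplex.mk g h wgh).Exact) (h₃ : P X₃) (h₄ : P X₄) : P (cokernel f) := by
  haveI : Mono (cokernel.desc f g wfg) := hfg.mono_cokernelDesc
  have w' : cokernel.desc f g wfg ≫ h = 0 := by
    apply (cancel_epi (cokernel.π f)).1
    rw [cokernel.π_desc_assoc, wgh, comp_zero]
  let T : ShortComplex C := ShortComplex.mk (cokernel.desc f g wfg) h w'
  let φ : ShortComplex.mk g h wgh ⟶ T :=
    { τ₁ := cokernel.π f
      τ₂ := 𝟙 _
      τ₃ := 𝟙 _
      comm₁₂ := by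
        change cokernel.π f ≫ cokernel.desc f g wfg = g ≫ 𝟙 _
        rw [cokernel.π_desc, Category.comp_id]
      comm₂₃ := by
        change 𝟙 _ ≫ h = h ≫ 𝟙 _
        rw [Category.id_comp, Category.comp_id] }
  haveI : Epi φ.τ₁ := inferInstanceAs (Epi (cokernel.π f))
  haveI : IsIso φ.τ₂ := inferInstanceAs (IsIso (𝟙 _))
  haveI : Mono φ.τ₃ := inferInstanceAs (Mono (𝟙 _))
  have hT : T.Exact := (ShortComplex.exact_iff_of_epi_of_isIso_of_mono φ).1 hgh
  haveI : Mono T.f := inferInstanceAs (Mono (cokernel.desc f g wfg))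
  exact hP.X₁_of_exact_mono T hT h₃ h₄

/-- the cokernel of `u ≫ v` for `v` a monomorphism is an extension of `coker v` by `coker u`. -/
lemma cokernel_comp {X Y Z : C} (u : X ⟶ Y) (v : Y ⟶ Z) [Mono v]
    (hu : P (cokernel u)) (hv : P (cokernel v)) : P (cokernel (u ≫ v)) := by
  have E := kernelCokernelCompSequence_exact u v
  let S2 := (kernelCokernelCompSequence u v).sc E.toIsComplex 2
  have h2 : S2.Exact := E.exact 2
  have hf : S2.f = 0 := (isZero_kernel_of_mono v).eq_of_src _ _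
  have hm : Mono S2.g := (S2.exact_iff_mono hf).1 h2
  let S3 := (kernelCokernelCompSequence u v).sc E.toIsComplex 3
  have h3 : S3.Exact := E.exact 3
  haveI : Mono S3.f := hm
  haveI : Epi S3.g := inferInstanceAs (Epi ((kernelCokernelCompSequence u v).map' 4 5))
  have hse : S3.ShortExact := ShortComplex.ShortExact.mk' h3 ‹_› ‹_›
  exact hP.ext S3 hse hu hv

end IsWeakSerre

end WeakSerre

section LES

variable {B : Type u} [Category.{v} B] [Abelian B] [HasInjectiveResolutions B]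
  {C : Type u'} [Category.{v'} C] [Abelian C] (Ψ : B ⥤ C) [Ψ.Additive]
  {P : C → Prop} (hP : IsWeakSerre P) {S : ShortComplex B} (hS : S.ShortExact)

open Groth.Agent.H2.RDer

include hP hS in
lemma P_X₃ (m : ℕ) (h₁ : P ((Ψ.rightDerived m).obj S.X₁)) (h₂ : P ((Ψ.rightDerived m).obj S.X₂))
    (h₁' : P ((Ψ.rightDerived (m + 1)).obj S.X₁))
    (h₂' : P ((Ψ.rightDerived (m + 1)).obj S.X₂)) :
    P ((Ψ.rightDerived m).obj S.X₃) :=
  hP.of_five _ _ _ _ (LES.map_f_g Ψ hS m) (LES.map_g_δ Ψ hS m) (LES.δ_map_f Ψ hS m)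
    (LES.exact₂ Ψ hS m) (LES.exact₃ Ψ hS m) (LES.exact₁ Ψ hS m) h₁ h₂ h₁' h₂'

include hP hS in
lemma P_X₂ (m : ℕ) (h₃ : P ((Ψ.rightDerived m).obj S.X₃))
    (h₁ : P ((Ψ.rightDerived (m + 1)).obj S.X₁))
    (h₃' : P ((Ψ.rightDerived (m + 1)).obj S.X₃))
    (h₁' : P ((Ψ.rightDerived (m + 1 + 1)).obj S.X₁)) :
    P ((Ψ.rightDerived (m + 1)).obj S.X₂) :=
  hP.of_five _ _ _ _ (LES.δ_map_f Ψ hS m) (LES.map_f_g Ψ hS (m + 1)) (LES.map_g_δ Ψ hS (m + 1))
    (LES.exact₁ Ψ hS m) (LES.exact₂ Ψ hS (m + 1)) (LES.exact₃ Ψ hS (m + 1)) h₃ h₁ h₃' h₁'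

variable [PreservesFiniteLimits Ψ]

/-- the connecting map `Ψ X₃ ⟶ R¹Ψ X₁`. -/
noncomputable def δ₀ : Ψ.obj S.X₃ ⟶ (Ψ.rightDerived (0 + 1)).obj S.X₁ :=
  Ψ.toRightDerivedZero.app S.X₃ ≫ LES.δ Ψ hS 0

lemma map_g_δ₀ : Ψ.map S.g ≫ δ₀ Ψ hS = 0 := by
  have h := Ψ.toRightDerivedZero.naturality S.g
  have h2 := LES.map_g_δ Ψ hS 0
  unfold δ₀
  rw [← Category.assoc, h, Category.assoc, h2, comp_zero]

lemma δ₀_map_f : δ₀ Ψ hS ≫ (Ψ.rightDerived (0 + 1)).map S.f = 0 := by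
  unfold δ₀
  rw [Category.assoc, LES.δ_map_f Ψ hS 0, comp_zero]

lemma exact_g_δ₀ : (ShortComplex.mk (Ψ.map S.g) (δ₀ Ψ hS) (map_g_δ₀ Ψ hS)).Exact := by
  let φ : ShortComplex.mk (Ψ.map S.g) (δ₀ Ψ hS) (map_g_δ₀ Ψ hS) ⟶
      ShortComplex.mk ((Ψ.rightDerived 0).map S.g) (LES.δ Ψ hS 0) (LES.map_g_δ Ψ hS 0) :=
    { τ₁ := Ψ.toRightDerivedZero.app S.X₂
      τ₂ := Ψ.toRightDerivedZero.app S.X₃
      τ₃ := 𝟙 _
      comm₁₂ := by
        change Ψ.toRightDerivedZero.app S.X₂ ≫ (Ψ.rightDerived 0).map S.g =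
          Ψ.map S.g ≫ Ψ.toRightDerivedZero.app S.X₃
        exact (Ψ.toRightDerivedZero.naturality S.g).symm
      comm₂₃ := by
        change Ψ.toRightDerivedZero.app S.X₃ ≫ LES.δ Ψ hS 0 = δ₀ Ψ hS ≫ 𝟙 _
        rw [Category.comp_id]
        rfl }
  haveI : Epi φ.τ₁ := inferInstanceAs (Epi (Ψ.toRightDerivedZero.app S.X₂))
  haveI : IsIso φ.τ₂ := inferInstanceAs (IsIso (Ψ.toRightDerivedZero.app S.X₃))
  haveI : Mono φ.τ₃ := inferInstanceAs (Mono (𝟙 _))
  exact (ShortComplex.exact_iff_of_epi_of_isIso_of_mono φ).2 (LES.exact₃ Ψ hS 0)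

lemma exact_δ₀_f :
    (ShortComplex.mk (δ₀ Ψ hS) ((Ψ.rightDerived (0 + 1)).map S.f) (δ₀_map_f Ψ hS)).Exact := by
  let φ : ShortComplex.mk (δ₀ Ψ hS) ((Ψ.rightDerived (0 + 1)).map S.f) (δ₀_map_f Ψ hS) ⟶
      ShortComplex.mk (LES.δ Ψ hS 0) ((Ψ.rightDerived (0 + 1)).map S.f) (LES.δ_map_f Ψ hS 0) :=
    { τ₁ := Ψ.toRightDerivedZero.app S.X₃
      τ₂ := 𝟙 _
      τ₃ := 𝟙 _
      comm₁₂ := by
        change Ψ.toRightDerivedZero.app S.X₃ ≫ LES.δ Ψ hS 0 = δ₀ Ψ hS ≫ 𝟙 _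
        rw [Category.comp_id]
        rfl
      comm₂₃ := by
        change 𝟙 _ ≫ (Ψ.rightDerived (0 + 1)).map S.f = (Ψ.rightDerived (0 + 1)).map S.f ≫ 𝟙 _
        rw [Category.id_comp, Category.comp_id] }
  haveI : Epi φ.τ₁ := inferInstanceAs (Epi (Ψ.toRightDerivedZero.app S.X₃))
  haveI : IsIso φ.τ₂ := inferInstanceAs (IsIso (𝟙 _))
  haveI : Mono φ.τ₃ := inferInstanceAs (Mono (𝟙 _))
  exact (ShortComplex.exact_iff_of_epi_of_isIso_of_mono φ).2 (LES.exact₁ Ψ hS 0)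

lemma epi_δ₀ (h₂ : IsZero ((Ψ.rightDerived (0 + 1)).obj S.X₂)) : Epi (δ₀ Ψ hS) := by
  let T : ShortComplex C :=
    ShortComplex.mk (δ₀ Ψ hS) ((Ψ.rightDerived (0 + 1)).map S.f) (δ₀_map_f Ψ hS)
  have hg : T.g = 0 := h₂.eq_of_tgt _ _
  exact (T.exact_iff_epi hg).1 (exact_δ₀_f Ψ hS)

include hS in
lemma map_f_map_g : Ψ.map S.f ≫ Ψ.map S.g = 0 := by
  rw [← Ψ.map_comp, S.zero, Ψ.map_zero]

lemma exact_map_f_g :
    (ShortComplex.mk (Ψ.map S.f) (Ψ.map S.g) (map_f_map_g Ψ hS)).Exact :=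
  hS.exact.map_of_mono_of_preservesKernel Ψ hS.mono_f inferInstance

include hP hS in
lemma P_cokernel_map_g (h₂ : IsZero ((Ψ.rightDerived (0 + 1)).obj S.X₂))
    (h₁ : P ((Ψ.rightDerived (0 + 1)).obj S.X₁)) : P (cokernel (Ψ.map S.g)) := by
  haveI := epi_δ₀ Ψ hS h₂
  let T : ShortComplex C := ShortComplex.mk (Ψ.map S.g) (δ₀ Ψ hS) (map_g_δ₀ Ψ hS)
  haveI : Epi T.g := inferInstanceAs (Epi (δ₀ Ψ hS))
  exact hP.cokernel_of_exact_epi T (exact_g_δ₀ Ψ hS) h₁

include hP hS in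
lemma P_cokernel_map_f (h₃ : P (Ψ.obj S.X₃)) (h₁ : P ((Ψ.rightDerived (0 + 1)).obj S.X₁)) :
    P (cokernel (Ψ.map S.f)) :=
  hP.cokernel_of_exact_exact (Ψ.map S.f) (Ψ.map S.g) (δ₀ Ψ hS) (map_f_map_g Ψ hS)
    (map_g_δ₀ Ψ hS) (exact_map_f_g Ψ hS) (exact_g_δ₀ Ψ hS) h₃ h₁

end LES

section Main

variable {B : Type u} [Category.{v} B] [Abelian B] [HasInjectiveResolutions B]
  {C : Type u'} [Category.{v'} C] [Abelian C] (Ψ : B ⥤ C) [Ψ.Additive]
  {P : C → Prop} (hP : IsWeakSerre P) (K : CochainComplex B ℕ)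

include hP in
lemma P_bd_of (hX : ∀ n, Acyc Ψ (K.X n)) (i j : ℕ) (hij : (ComplexShape.up ℕ).next i = j)
    (hZ : ∀ p, P ((Ψ.rightDerived (p + 1)).obj (K.cycles i))) (p : ℕ) :
    P ((Ψ.rightDerived (p + 1)).obj (bd K i j)) :=
  P_X₃ Ψ hP (seqA_shortExact K i j hij) (p + 1) (hZ p) (hP.zero _ (hX i p)) (hZ (p + 1))
    (hP.zero _ (hX i (p + 1)))

include hP in
lemma P_cycles (hX : ∀ n, Acyc Ψ (K.X n)) (n : ℕ)
    (hH : ∀ q, q ≤ n → ∀ p, P ((Ψ.rightDerived p).obj (K.homology q))) :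
    ∀ q, q ≤ n → ∀ p, P ((Ψ.rightDerived (p + 1)).obj (K.cycles q))
  | 0, _, p =>
    hP.of_iso ((Ψ.rightDerived (p + 1)).mapIso K.isoHomologyπ₀.symm) (hH 0 (Nat.zero_le _) (p + 1))
  | (m + 1), hm, p => by
    have IH := P_cycles hX n hH m (Nat.le_of_succ_le hm)
    have hBd := P_bd_of Ψ hP K hX m (m + 1) (by simp) IH
    exact P_X₂ Ψ hP (seqB_shortExact K m (m + 1) (by simp)) p (hH (m + 1) hm p) (hBd p)
      (hH (m + 1) hm (p + 1)) (hBd (p + 1))

variable [PreservesFiniteLimits Ψ]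

include hP in
set_option backward.isDefEq.respectTransparency false in
lemma P_homology_step (j : ℕ)
    (hj : (ComplexShape.up ℕ).next ((ComplexShape.up ℕ).prev j) = j)
    (hXi : IsZero ((Ψ.rightDerived (0 + 1)).obj (K.X ((ComplexShape.up ℕ).prev j))))
    (hZ : P ((Ψ.rightDerived (0 + 1)).obj (K.cycles ((ComplexShape.up ℕ).prev j))))
    (hBd : P ((Ψ.rightDerived (0 + 1)).obj (bd K ((ComplexShape.up ℕ).prev j) j)))
    (hHj : P (Ψ.obj (K.homology j))) :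
    P (((Ψ.mapHomologicalComplex (ComplexShape.up ℕ)).obj K).homology j) := by
  have hA := seqA_shortExact K ((ComplexShape.up ℕ).prev j) j hj
  have hB := seqB_shortExact K ((ComplexShape.up ℕ).prev j) j rfl
  have hu : P (cokernel (Ψ.map (seqA K ((ComplexShape.up ℕ).prev j) j).g)) :=
    P_cokernel_map_g Ψ hP hA hXi hZ
  have hv : P (cokernel (Ψ.map (seqB K ((ComplexShape.up ℕ).prev j) j).f)) :=
    P_cokernel_map_f Ψ hP hB hHj hBd
  haveI : Mono (seqB K ((ComplexShape.up ℕ).prev j) j).f := hB.mono_f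
  haveI : Mono (Ψ.map (seqB K ((ComplexShape.up ℕ).prev j) j).f) := inferInstance
  have huv := hP.cokernel_comp (Ψ.map (seqA K ((ComplexShape.up ℕ).prev j) j).g)
    (Ψ.map (seqB K ((ComplexShape.up ℕ).prev j) j).f) hu hv
  have hc : ((Ψ.mapHomologicalComplex (ComplexShape.up ℕ)).obj K).toCycles
        ((ComplexShape.up ℕ).prev j) j ≫ RDer.cyclesComparison Ψ K j =
      Ψ.map (seqA K ((ComplexShape.up ℕ).prev j) j).g ≫
        Ψ.map (seqB K ((ComplexShape.up ℕ).prev j) j).f := by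
    have h := RDer.toCycles_cyclesComparison Ψ K j
    have h' : (seqA K ((ComplexShape.up ℕ).prev j) j).g ≫
        (seqB K ((ComplexShape.up ℕ).prev j) j).f =
        K.toCycles ((ComplexShape.up ℕ).prev j) j := Abelian.image.fac _
    rw [← Ψ.map_comp, h']
    exact h
  have e2 : cokernel (((Ψ.mapHomologicalComplex (ComplexShape.up ℕ)).obj K).toCycles
        ((ComplexShape.up ℕ).prev j) j) ≅
      cokernel (Ψ.map (seqA K ((ComplexShape.up ℕ).prev j) j).g ≫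
        Ψ.map (seqB K ((ComplexShape.up ℕ).prev j) j).f) :=
    cokernel.mapIso _ _ (Iso.refl _) (asIso (RDer.cyclesComparison Ψ K j)) (by
      change _ ≫ RDer.cyclesComparison Ψ K j = 𝟙 _ ≫ _
      rw [Category.id_comp]
      exact hc)
  let T : ShortComplex C := ShortComplex.mk
    (((Ψ.mapHomologicalComplex (ComplexShape.up ℕ)).obj K).toCycles ((ComplexShape.up ℕ).prev j) j)
    (((Ψ.mapHomologicalComplex (ComplexShape.up ℕ)).obj K).homologyπ j)
    (((Ψ.mapHomologicalComplex (ComplexShape.up ℕ)).obj K).toCycles_comp_homologyπ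
      ((ComplexShape.up ℕ).prev j) j)
  have hT : T.Exact := T.exact_of_g_is_cokernel
    (((Ψ.mapHomologicalComplex (ComplexShape.up ℕ)).obj K).homologyIsCokernel
      ((ComplexShape.up ℕ).prev j) j rfl)
  haveI : Epi T.g := inferInstanceAs
    (Epi (((Ψ.mapHomologicalComplex (ComplexShape.up ℕ)).obj K).homologyπ j))
  exact hP.of_exact_epi T hT (hP.of_iso e2.symm huv)

include hP in
/-- **Range lemma**: `P (H^j (Ψ K))` for `j ≤ n` when the terms of `K` are `Ψ`-acyclic and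
`P (RᵖΨ (H^q K))` for all `p` and all `q ≤ n`. -/
theorem P_homology_map (hX : ∀ n, Acyc Ψ (K.X n)) (n : ℕ)
    (hH : ∀ q, q ≤ n → ∀ p, P ((Ψ.rightDerived p).obj (K.homology q))) (j : ℕ) (hj : j ≤ n) :
    P (((Ψ.mapHomologicalComplex (ComplexShape.up ℕ)).obj K).homology j) := by
  cases j with
  | zero =>
    have key := cmpSC_zero_exact_and_epi Ψ K
    haveI := key.2
    haveI : IsIso (RDer.homologyComparison Ψ K 0) := isIso_of_isColimit Ψ K 0 key.1.gIsCokernel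
    have h0 : P (Ψ.obj (K.homology 0)) :=
      hP.of_iso (Ψ.rightDerivedZeroIsoSelf.app (K.homology 0)) (hH 0 (Nat.zero_le _) 0)
    exact hP.of_iso (asIso (RDer.homologyComparison Ψ K 0)).symm h0
  | succ m =>
    have hm' : m ≤ n := Nat.le_of_succ_le hj
    have hZ := P_cycles Ψ hP K hX n hH m hm'
    have hBd := P_bd_of Ψ hP K hX m (m + 1) (by simp) hZ
    have hpm : (ComplexShape.up ℕ).prev (m + 1) = m := CochainComplex.prev_nat_succ m
    apply P_homology_step Ψ hP K (m + 1)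
    · rw [hpm]
      simp
    · rw [hpm]
      exact hX m 0
    · rw [hpm]
      exact hZ 0
    · rw [hpm]
      exact hBd 0
    · exact hP.of_iso (Ψ.rightDerivedZeroIsoSelf.app _) (hH (m + 1) hj 0)

end Main

section Edge

variable {A : Type u''} [Category.{v''} A] [Abelian A] [HasInjectiveResolutions A]
  {B : Type u} [Category.{v} B] [Abelian B] [HasInjectiveResolutions B]
  {C : Type u'} [Category.{v'} C] [Abelian C]
  (Φ : A ⥤ B) [Φ.Additive] (Ψ : B ⥤ C) [Ψ.Additive] [PreservesFiniteLimits Ψ]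
  {P : C → Prop} (hP : IsWeakSerre P)

include hP in
/-- If `Φ` sends injectives to `Ψ`-acyclic objects and `P (RᵖΨ (R^qΦ X))` for all `p` and all `q ≤ n`, then
`P (Rⁱ(Φ ⋙ Ψ) X)` for all `i ≤ n`. -/
theorem P_rightDerived_comp (X : A) (h1 : ∀ I : A, Injective I → Acyc Ψ (Φ.obj I)) (n : ℕ)
    (h2 : ∀ q, q ≤ n → ∀ p, P ((Ψ.rightDerived p).obj ((Φ.rightDerived q).obj X)))
    (i : ℕ) (hi : i ≤ n) : P (((Φ ⋙ Ψ).rightDerived i).obj X) := by
  have h := P_homology_map Ψ hP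
    ((Φ.mapHomologicalComplex (ComplexShape.up ℕ)).obj (injectiveResolution X).cocomplex)
    (fun m => h1 _ ((injectiveResolution X).injective m)) n
    (fun q hq p => hP.of_iso
      ((Ψ.rightDerived p).mapIso ((injectiveResolution X).isoRightDerivedObj Φ q)) (h2 q hq p))
    i hi
  exact hP.of_iso ((injectiveResolution X).isoRightDerivedObj (Φ ⋙ Ψ) i).symm h

end Edge

end Groth.Agent.LD.EO
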