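import Mathlib
import Groth.Prelude.Def_CohBC2
import Groth.Agent.Lib.Lead.EO.SerreRange
import Groth.Agent.Lib.Lead.EO.Leray
import Groth.Agent.Lib.Lead.QC.SerreSupp
import Groth.Agent.Lib.Lead.DF.Push
import Groth.Agent.H4.K0Coh

/-!
# Coherence of `Rⁱ(g ≫ f)_* F` in a range of degrees

Coherent modules on a locally Noetherian scheme form a weak Serre class; hence if `R^p f_* (R^q g_* F)` is
coherent for all `p` and all `q ≤ n`, then `Rⁱ (g ≫ f)_* F` is coherent for all `i ≤ n`.
-/

set_option autoImplicit false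

open CategoryTheory Limits AlgebraicGeometry

namespace Groth.Agent.LD.EO

universe u

theorem isWeakSerre_isCoh (S : Scheme.{u}) [IsLocallyNoetherian S] :
    IsWeakSerre (fun M : S.Modules => Coh.IsCoh M) where
  of_iso e h := Groth.Agent.LD.QC.isCoh_of_iso e h
  zero _ hX := Groth.Agent.H4.K0Coh.isCoh_of_isZero hX
  kerP f hX hY := Groth.Agent.LD.QC.isCoh_kernel f hX hY
  cokerP f hX hY := Groth.Agent.LD.QC.isCoh_cokernel f hX hY
  ext T hT h1 h3 := Groth.Agent.LD.DF.isCoh_of_shortExact T hT h1 h3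

theorem isCoh_Rpush_comp_range {X Y Z : Scheme.{u}} (g : X ⟶ Y) (f : Y ⟶ Z)
    [IsLocallyNoetherian Z] [HasInjectiveResolutions X.Modules]
    [HasInjectiveResolutions Y.Modules] (F : X.Modules) (n : ℕ)
    (h : ∀ q, q ≤ n → ∀ p, Coh.IsCoh ((Coh.Rpush f p).obj ((Coh.Rpush g q).obj F)))
    (i : ℕ) (hi : i ≤ n) : Coh.IsCoh ((Coh.Rpush (g ≫ f) i).obj F) := by
  have h0 := P_rightDerived_comp (Scheme.Modules.pushforward g) (Scheme.Modules.pushforward f)
    (isWeakSerre_isCoh Z) F
    (fun I hI q => by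
      haveI := hI
      exact isZero_Rpush_push_injective g f I (q + 1) (Nat.succ_pos q)) n h i hi
  exact Groth.Agent.LD.QC.isCoh_of_iso
    ((RDer.rightDerivedIso (Scheme.Modules.pushforwardComp g f) i).app F) h0

end Groth.Agent.LD.EO
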